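import Cfsg.Prelude.Def_MonsterType
import Cfsg.Agent.Lib.Components.Cores

/-! # Singular involutions: the 2-cores of centralizers of a class of involutions -/

set_option autoImplicit false

namespace Cfsg.Agent.Lib.Singular

open Cfsg

variable {G : Type*} [Group G]

theorem core_normal {H : Type*} [Group H] (p : ℕ) : (Cfsg.pCore p H).Normal := by
  refine ⟨fun a ha g => ?_⟩
  refine Subgroup.mem_comap.1 (show a ∈ (Cfsg.pCore p H).comap (MulAut.conj g).toMonoidHom from ?_)
  exact (sSup_le fun N hN => fun x hx => Subgroup.mem_comap.2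
    (le_sSup (α := Subgroup H) hN (hN.1.conj_mem x hx g)) : Cfsg.pCore p H ≤ _) ha

/-- Properties of the 2-core `P` of the centralizer of a member `y` of the class. -/
structure Good (P : Subgroup G) (y : G) : Prop where
  sq : y * y = 1
  ne : y ≠ 1
  mem : y ∈ P
  le : ∀ a ∈ P, a * y = y * a
  norm : ∀ c, c * y = y * c → ∀ a ∈ P, c * a * c⁻¹ ∈ P
  comm : ∀ a ∈ P, ∀ b ∈ P, a * b * a⁻¹ * b⁻¹ = 1 ∨ a * b * a⁻¹ * b⁻¹ = y
  sqr : ∀ a ∈ P, a * a = 1 ∨ a * a = y
  cent : ∀ c, (∀ a ∈ P, c * a = a * c) → c = 1 ∨ c = y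
  nontriv : ∃ v ∈ P, v ≠ 1 ∧ v ≠ y

theorem conj_core [Finite G] (Q : G → Subgroup G)
    (hQ : ∀ x : G, Q x = (Cfsg.pCore 2 ↥(Subgroup.centralizer ({x} : Set G))).map (Subgroup.centralizer ({x} : Set G)).subtype)
    (g y a : G) (ha : a ∈ Q y) : g * a * g⁻¹ ∈ Q (g * y * g⁻¹) := by
  set C := Subgroup.centralizer ({y} : Set G) with hC
  set C' := Subgroup.centralizer ({g * y * g⁻¹} : Set G) with hC'
  have hmem : ∀ c : ↥C, g * (c : G) * g⁻¹ ∈ C' := by
    intro c
    have hc : (c : G) * y = y * c := Subgroup.mem_centralizer_singleton_iff.1 c.2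
    rw [hC', Subgroup.mem_centralizer_singleton_iff]
    calc g * (c : G) * g⁻¹ * (g * y * g⁻¹) = g * ((c : G) * y) * g⁻¹ := by group
      _ = g * (y * c) * g⁻¹ := by rw [hc]
      _ = _ := by group
  let f : ↥C →* ↥C' :=
    { toFun := fun c => ⟨g * (c : G) * g⁻¹, hmem c⟩
      map_one' := by simp
      map_mul' := fun c d => by ext; simp [mul_assoc] }
  have hf : Function.Surjective f := by
    intro d
    have hd : (d : G) * (g * y * g⁻¹) = g * y * g⁻¹ * d := Subgroup.mem_centralizer_singleton_iff.1 d.2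
    refine ⟨⟨g⁻¹ * (d : G) * g, ?_⟩, ?_⟩
    · rw [hC, Subgroup.mem_centralizer_singleton_iff]
      calc g⁻¹ * (d : G) * g * y = g⁻¹ * ((d : G) * (g * y * g⁻¹)) * g := by group
        _ = g⁻¹ * (g * y * g⁻¹ * d) * g := by rw [hd]
        _ = _ := by group
    · apply Subtype.ext
      show g * (g⁻¹ * (d : G) * g) * g⁻¹ = d
      group
  haveI : (Cfsg.pCore 2 ↥C).Normal := core_normal 2
  haveI := Subgroup.Normal.map (H := Cfsg.pCore 2 ↥C) inferInstance f hf
  have hp : IsPGroup 2 ↥((Cfsg.pCore 2 ↥C).map f) := (Components.pCore_isPGroup 2).map f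
  rw [hQ] at ha ⊢
  obtain ⟨a, ha, rfl⟩ := ha
  exact ⟨f a, Components.le_pCore hp (Subgroup.mem_map_of_mem f ha), rfl⟩

theorem good_of [Finite G] {P : Subgroup G} {z : G} (hz : orderOf z = 2) (hE : Cfsg.IsExtraspecial 2 ↥P)
    (hC : Subgroup.centralizer (P : Set G) ≤ P) (hle : ∀ a ∈ P, a * z = z * a)
    (hnorm : ∀ c, c * z = z * c → ∀ a ∈ P, c * a * c⁻¹ ∈ P) : Good P z := by
  have hz2 : z * z = 1 := by rw [← pow_two, ← hz, pow_orderOf_eq_one]
  have hz1 : z ≠ 1 := fun e => by rw [e, orderOf_one] at hz; omega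
  have hzmem : z ∈ P := hC (Subgroup.mem_centralizer_iff.2 fun a ha => hle a ha)
  have hzc : (⟨z, hzmem⟩ : ↥P) ∈ Subgroup.center ↥P :=
    Subgroup.mem_center_iff.2 fun a => Subtype.ext (hle a a.2)
  have hcentre : ∀ a : ↥P, a ∈ Subgroup.center ↥P → (a : G) = 1 ∨ (a : G) = z := by
    intro a ha
    by_contra h
    push Not at h
    haveI := Fintype.ofFinite ↥P
    have h3 : 3 ≤ Nat.card (Subgroup.center ↥P) := by
      classical
      rw [Nat.card_eq_fintype_card]
      have := Finset.card_le_univ ({⟨1, one_mem _⟩, ⟨⟨z, hzmem⟩, hzc⟩, ⟨a, ha⟩} : Finset (Subgroup.center ↥P))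
      rw [Finset.card_insert_of_notMem, Finset.card_pair] at this
      · exact this
      · exact fun e => h.2 (congrArg (fun q : Subgroup.center ↥P => ((q : ↥P) : G)) e).symm
      · simp only [Finset.mem_insert, Finset.mem_singleton, not_or]
        exact ⟨fun e => hz1 (congrArg (fun q : Subgroup.center ↥P => ((q : ↥P) : G)) e).symm,
          fun e => h.1 (congrArg (fun q : Subgroup.center ↥P => ((q : ↥P) : G)) e).symm⟩
    rw [hE.2] at h3; omega
  have hcomm : ∀ a ∈ P, ∀ b ∈ P, a * b * a⁻¹ * b⁻¹ = 1 ∨ a * b * a⁻¹ * b⁻¹ = z := by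
    intro a ha b hb
    have : (⟨a, ha⟩ * ⟨b, hb⟩ * (⟨a, ha⟩)⁻¹ * (⟨b, hb⟩)⁻¹ : ↥P) ∈ Subgroup.center ↥P := by
      rw [← hE.1.2.2, ← commutatorElement_def, commutator_def]
      exact Subgroup.commutator_mem_commutator (Subgroup.mem_top _) (Subgroup.mem_top _)
    simpa using hcentre _ this
  refine ⟨hz2, hz1, hzmem, hle, hnorm, hcomm, ?_, ?_, ?_⟩
  · intro a ha
    refine hcentre ⟨a * a, mul_mem ha ha⟩ (Subgroup.mem_center_iff.2 fun b => Subtype.ext ?_)
    show (b : G) * (a * a) = a * a * b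
    rcases hcomm b b.2 a ha with h | h
    · have e : (b : G) * a = a * b := commutatorElement_eq_one_iff_mul_comm.1 h
      rw [← mul_assoc, e, mul_assoc, e, mul_assoc]
    · have e : (b : G) * a = z * (a * b) :=
        calc (b : G) * a = (b * a * (b : G)⁻¹ * a⁻¹) * (a * b) := by group
          _ = _ := by rw [h]
      calc (b : G) * (a * a) = (b : G) * a * a := (mul_assoc _ _ _).symm
        _ = z * (a * b) * a := by rw [e]
        _ = z * a * ((b : G) * a) := by simp only [mul_assoc]
        _ = z * a * (z * (a * b)) := by rw [e]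
        _ = z * (a * z) * (a * b) := by simp only [mul_assoc]
        _ = z * z * (a * a * b) := by rw [hle a ha]; simp only [mul_assoc]
        _ = _ := by rw [hz2, one_mul]
  · intro c hc
    have hmem : c ∈ P := hC (Subgroup.mem_centralizer_iff.2 fun a ha => (hc a ha).symm)
    exact hcentre ⟨c, hmem⟩ (Subgroup.mem_center_iff.2 fun a => Subtype.ext (hc a a.2).symm)
  · by_contra h
    push Not at h
    have hall : commutator ↥P = ⊥ := by
      rw [commutator_def, Subgroup.commutator_eq_bot_iff_le_centralizer]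
      intro a _
      rw [Subgroup.mem_centralizer_iff]
      intro b _
      apply Subtype.ext
      show (b : G) * a = a * b
      by_cases ha : (a : G) = 1
      · rw [ha, mul_one, one_mul]
      · rw [h a a.2 ha]; exact hle b b.2
    rw [hE.1.2.2] at hall
    have := hE.2
    rw [hall, Subgroup.card_bot] at this
    omega

theorem good_of_extraspecial [Finite G] (Q : G → Subgroup G)
    (hQ : ∀ x : G, Q x = (Cfsg.pCore 2 ↥(Subgroup.centralizer ({x} : Set G))).map (Subgroup.centralizer ({x} : Set G)).subtype)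
    (z : G) (hz : orderOf z = 2) (hE : Cfsg.IsExtraspecial 2 ↥(Q z))
    (hC : Subgroup.centralizer ((Q z : Subgroup G) : Set G) ≤ Q z) : Good (Q z) z := by
  refine good_of hz hE hC ?_ ?_
  · intro a ha
    rw [hQ] at ha
    obtain ⟨a, -, rfl⟩ := ha
    exact Subgroup.mem_centralizer_singleton_iff.1 a.2
  · intro c hc a ha
    rw [hQ] at ha ⊢
    obtain ⟨a, ha, rfl⟩ := ha
    haveI : (Cfsg.pCore 2 ↥(Subgroup.centralizer ({z} : Set G))).Normal := core_normal 2
    exact ⟨_, Subgroup.Normal.conj_mem inferInstance a ha ⟨c, Subgroup.mem_centralizer_singleton_iff.2 hc⟩, rfl⟩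

theorem good_conj [Finite G] (Q : G → Subgroup G)
    (hQ : ∀ x : G, Q x = (Cfsg.pCore 2 ↥(Subgroup.centralizer ({x} : Set G))).map (Subgroup.centralizer ({x} : Set G)).subtype)
    {y : G} (hy : Good (Q y) y) (g : G) : Good (Q (g * y * g⁻¹)) (g * y * g⁻¹) := by
  have back : ∀ a ∈ Q (g * y * g⁻¹), g⁻¹ * a * g ∈ Q y := fun a ha => by
    have := conj_core Q hQ g⁻¹ _ a ha
    simpa [mul_assoc] using this
  have fwd : ∀ a ∈ Q y, g * a * g⁻¹ ∈ Q (g * y * g⁻¹) := fun a ha => conj_core Q hQ g y a ha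
  refine ⟨?_, ?_, fwd y hy.mem, ?_, ?_, ?_, ?_, ?_, ?_⟩
  · rw [show g * y * g⁻¹ * (g * y * g⁻¹) = g * (y * y) * g⁻¹ by group, hy.sq]; group
  · intro e; exact hy.ne (conj_eq_one_iff.1 e)
  · intro a ha
    have := congrArg (fun t => g * t * g⁻¹) (hy.le _ (back a ha))
    simpa [mul_assoc] using this
  · intro c hc a ha
    have hc' : g⁻¹ * c * g * y = y * (g⁻¹ * c * g) := by
      have := congrArg (fun t => g⁻¹ * t * g) hc
      simpa [mul_assoc] using this
    have := fwd _ (hy.norm _ hc' _ (back a ha))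
    simpa [mul_assoc] using this
  · intro a ha b hb
    rcases hy.comm _ (back a ha) _ (back b hb) with h | h
    · left
      have := congrArg (fun t => g * t * g⁻¹) h
      simpa [mul_assoc] using this
    · right
      have := congrArg (fun t => g * t * g⁻¹) h
      simpa [mul_assoc] using this
  · intro a ha
    rcases hy.sqr _ (back a ha) with h | h
    · left
      have := congrArg (fun t => g * t * g⁻¹) h
      simpa [mul_assoc] using this
    · right
      have := congrArg (fun t => g * t * g⁻¹) h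
      simpa [mul_assoc] using this
  · intro c hc
    have := hy.cent (g⁻¹ * c * g) fun a ha => by
      have := congrArg (fun t => g⁻¹ * t * g) (hc _ (fwd a ha))
      simpa [mul_assoc] using this
    rcases this with h | h
    · left
      have := congrArg (fun t => g * t * g⁻¹) h
      simpa [mul_assoc] using this
    · right
      have := congrArg (fun t => g * t * g⁻¹) h
      simpa [mul_assoc] using this
  · obtain ⟨v, hv, h1, h2⟩ := hy.nontriv
    refine ⟨g * v * g⁻¹, fwd v hv, fun e => h1 (conj_eq_one_iff.1 e), fun e => h2 ?_⟩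
    exact mul_left_cancel (mul_right_cancel e)

/-- Commutation from a commutator being trivial. -/
theorem comm_iff (a b : G) : a * b * a⁻¹ * b⁻¹ = 1 ↔ a * b = b * a := commutatorElement_eq_one_iff_mul_comm

/-- An element not centralizing is moved by the nontrivial central commutator. -/
theorem exists_mover {P : Subgroup G} {y : G} (hy : Good P y) {a : G} (ha : a ∈ P) (h1 : a ≠ 1) (h2 : a ≠ y) :
    ∃ q ∈ P, q * a * q⁻¹ = y * a := by
  by_contra h
  push Not at h
  refine (hy.cent a fun b hb => ?_).elim h1 h2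
  rcases hy.comm b hb a ha with e | e
  · exact ((comm_iff _ _).1 e).symm
  · exact absurd (by rw [← e]; group) (h b hb)

/-- The double centralizer property of the commutator pairing. -/
theorem closure_of_centralizers {P : Subgroup G} {y : G} (hy : Good P y) {S : Set G} (hS : S.Finite) (hSP : S ⊆ P)
    {x : G} (hx : x ∈ P) (h : ∀ q ∈ P, (∀ s ∈ S, q * s = s * q) → q * x = x * q) :
    x ∈ Subgroup.closure (insert y S) := by
  induction S, hS using Set.Finite.induction_on generalizing x with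
  | empty =>
    rcases hy.cent x fun a ha => (h a ha (by simp)).symm with rfl | rfl
    · exact one_mem _
    · exact Subgroup.subset_closure (Set.mem_insert _ _)
  | @insert s S _ _ ih =>
    have hs : s ∈ P := hSP (Set.mem_insert _ _)
    have hSP' : S ⊆ P := (Set.subset_insert _ _).trans hSP
    have hmono : Subgroup.closure (insert y S) ≤ Subgroup.closure (insert y (insert s S)) :=
      Subgroup.closure_mono (Set.insert_subset_insert (Set.subset_insert _ _))
    by_cases hall : ∀ q ∈ P, (∀ t ∈ S, q * t = t * q) → q * x = x * q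
    · exact hmono (ih hSP' hx hall)
    push Not at hall
    obtain ⟨q₀, hq₀, hq₀S, hq₀x⟩ := hall
    have hq₀s : q₀ * s ≠ s * q₀ := fun e => hq₀x (h q₀ hq₀ (by
      rintro t (rfl | ht)
      exacts [e, hq₀S t ht]))
    have hsx : x * s⁻¹ ∈ Subgroup.closure (insert y S) := by
      refine ih hSP' (mul_mem hx (inv_mem hs)) fun q hq hqS => ?_
      by_cases hqs : q * s = s * q
      · have hqx : q * x = x * q := h q hq (by
          rintro t (rfl | ht)
          exacts [hqs, hqS t ht])
        exact (Commute.mul_right hqx (Commute.inv_right hqs)).eq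
      · have e1 : q * s * q⁻¹ * s⁻¹ = y := (hy.comm q hq s hs).resolve_left (fun e => hqs ((comm_iff _ _).1 e))
        have e2 : q * x * q⁻¹ * x⁻¹ = y := by
          refine (hy.comm q hq x hx).resolve_left (fun e => hq₀x ?_)
          have hqx := (comm_iff _ _).1 e
          have e3 : q₀ * s * q₀⁻¹ * s⁻¹ = y := (hy.comm q₀ hq₀ s hs).resolve_left (fun e => hq₀s ((comm_iff _ _).1 e))
          have c1 : (q⁻¹ * q₀) * s = s * (q⁻¹ * q₀) := by
            have a1 : q * s = y * (s * q) := by rw [← e1]; group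
            have a2 : q₀ * s = y * (s * q₀) := by rw [← e3]; group
            calc q⁻¹ * q₀ * s = q⁻¹ * (y * (s * q₀)) := by rw [mul_assoc, a2]
              _ = q⁻¹ * (y * (s * q)) * q⁻¹ * q₀ := by group
              _ = q⁻¹ * (q * s) * q⁻¹ * q₀ := by rw [a1]
              _ = _ := by group
          have c2 := h _ (mul_mem (inv_mem hq) hq₀) (by
            rintro t (rfl | ht)
            · exact c1
            · exact (Commute.mul_left (Commute.inv_left (hqS t ht)) (hq₀S t ht)).eq)
          have := (Commute.mul_left (show Commute q x from hqx) (show Commute (q⁻¹ * q₀) x from c2)).eq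
          simpa using this
        apply (comm_iff _ _).1
        calc q * (x * s⁻¹) * q⁻¹ * (x * s⁻¹)⁻¹ = (q * x * q⁻¹ * x⁻¹) * x * ((q * s * q⁻¹ * s⁻¹) * s)⁻¹ * s * x⁻¹ := by group
          _ = y * x * (y * s)⁻¹ * s * x⁻¹ := by rw [e1, e2]
          _ = y * (x * s⁻¹) * y⁻¹ * (x * s⁻¹)⁻¹ := by group
          _ = 1 := by
            rw [← hy.le _ (mul_mem hx (inv_mem hs))]; group
    have hh := mul_mem (hmono hsx) (Subgroup.subset_closure (Set.mem_insert_of_mem y (Set.mem_insert s S)))
    simpa using hh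

/-- Separation: an element outside a subgroup containing `y` is moved by the centralizer of that subgroup. -/
theorem exists_separator [Finite G] {P V : Subgroup G} {y : G} (hy : Good P y) (hVP : V ≤ P) (hyV : y ∈ V)
    {x : G} (hx : x ∈ P) (hxV : x ∉ V) : ∃ q ∈ P, (∀ v ∈ V, q * v = v * q) ∧ q * x * q⁻¹ = y * x := by
  by_contra h
  push Not at h
  apply hxV
  have hle : Subgroup.closure (insert y (V : Set G)) ≤ V := (Subgroup.closure_le _).2 (Set.insert_subset hyV le_rfl)
  refine hle (closure_of_centralizers hy (V : Set G).toFinite hVP hx fun q hq hqV => ?_)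
  rcases hy.comm q hq x hx with e | e
  · exact (comm_iff _ _).1 e
  · exact absurd (by rw [← e]; group) (h q hq hqV)

/-- Orthogonality is symmetric. -/
theorem symm (Q : G → Subgroup G) (hconj : ∀ g y a, a ∈ Q y → g * a * g⁻¹ ∈ Q (g * y * g⁻¹))
    {x z : G} (hz : Good (Q z) z) (hx : Good (Q x) x) (hxz : x ∈ Q z) : z ∈ Q x := by
  by_contra hzx
  have hne : x ≠ z := fun e => hzx (e ▸ hx.mem)
  have hxzc : x * z = z * x := hz.le x hxz
  obtain ⟨q, hq, hqx⟩ := exists_mover hz hxz hx.ne hne
  have hzi : z⁻¹ = z := inv_eq_of_mul_eq_one_right hz.sq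
  have hxi : x⁻¹ = x := inv_eq_of_mul_eq_one_right hx.sq
  have hqz : q * z * q⁻¹ = z := by rw [hz.le q hq, mul_inv_cancel_right]
  -- step 1
  have noswap : ∀ b ∈ Q x, b * z * b⁻¹ * z⁻¹ ≠ x := by
    intro b hb e
    have h1 : b * z * b⁻¹ = z * x :=
      calc b * z * b⁻¹ = (b * z * b⁻¹ * z⁻¹) * z := by group
        _ = _ := by rw [e, hxzc]
    have h2 : x ∈ Q (z * x) := by
      have := hconj b z x hxz
      rwa [h1, hx.le b hb, mul_inv_cancel_right] at this
    have h3 := hconj q (z * x) x h2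
    have h4 : q * (z * x) * q⁻¹ = x := by
      calc q * (z * x) * q⁻¹ = (q * z * q⁻¹) * (q * x * q⁻¹) := by group
        _ = x := by rw [hqz, hqx, ← mul_assoc, hz.sq, one_mul]
    rw [h4, hqx] at h3
    apply hzx
    have := mul_mem h3 (inv_mem hx.mem)
    rwa [mul_inv_cancel_right] at this
  have hB : ∀ b ∈ Q x, b * z * b⁻¹ * z⁻¹ = 1 ∨ b * z * b⁻¹ * z⁻¹ = x → b * z = z * b := fun b hb h =>
    (comm_iff _ _).1 (h.resolve_right (noswap b hb))
  have hzv : ∀ v ∈ Q x, z * v * z⁻¹ ∈ Q x := fun v hv => hx.norm z hxzc.symm v hv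
  have hzflip : ∀ v, z * v * z⁻¹ * v⁻¹ = 1 ∨ z * v * z⁻¹ * v⁻¹ = x → v * z * v⁻¹ * z⁻¹ = 1 ∨ v * z * v⁻¹ * z⁻¹ = x := by
    intro v h
    have e : v * z * v⁻¹ * z⁻¹ = (z * v * z⁻¹ * v⁻¹)⁻¹ := by group
    rcases h with h | h <;> rw [e, h]
    · left; simp
    · right; exact hxi
  -- the intersection
  have hD : ∀ d ∈ Q x, d ∈ Q z → d = 1 ∨ d = x := by
    intro d hdx hdz
    have hR : ∀ r ∈ Q z, r * x = x * r → r * d = d * r := by
      intro r hr hrx
      rcases hz.comm r hr d hdz with e | e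
      · exact (comm_iff _ _).1 e
      · exact absurd (e ▸ mul_mem (hx.norm r hrx d hdx) (inv_mem hdx)) hzx
    have hall : ∀ d, d ∈ Q z → (∀ r ∈ Q z, r * x = x * r → r * d = d * r) → q * d = d * q → ∀ u ∈ Q z, d * u = u * d := by
      intro d hdz hR hqd u hu
      rcases hz.comm u hu x hxz with e | e
      · exact (hR u hu ((comm_iff _ _).1 e)).symm
      · have hu' : q⁻¹ * u * x = x * (q⁻¹ * u) := by
          have a1 : u * x = z * x * u := by rw [← e]; group
          calc q⁻¹ * u * x = q⁻¹ * (z * x * u) := by rw [mul_assoc, a1]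
            _ = q⁻¹ * (q * x * q⁻¹) * u := by rw [hqx]; group
            _ = _ := by group
        have := (Commute.mul_left (show Commute q d from hqd) (show Commute (q⁻¹ * u) d from hR _ (mul_mem (inv_mem hq) hu) hu')).eq
        simpa using this.symm
    rcases hz.comm q hq d hdz with e | e
    · rcases hz.cent d (hall d hdz hR ((comm_iff _ _).1 e)) with h | h
      · exact Or.inl h
      · exact absurd (h ▸ hdx) hzx
    · have hqdx : q * (d * x) = d * x * q := by
        have a1 : q * d = z * d * q := by rw [← e]; group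
        calc q * (d * x) = q * d * q⁻¹ * (q * x * q⁻¹) * q := by group
          _ = z * d * (z * x) * q := by rw [a1, hqx]; group
          _ = z * (d * z) * x * q := by simp only [mul_assoc]
          _ = (z * z) * (d * x) * q := by rw [hz.le d hdz]; simp only [mul_assoc]
          _ = _ := by rw [hz.sq, one_mul]
      rcases hz.cent (d * x) (hall _ (mul_mem hdz hxz) (fun r hr hrx => by
          rw [← mul_assoc, hR r hr hrx, mul_assoc, hrx, ← mul_assoc]) hqdx) with h | h
      · right; rw [eq_inv_of_mul_eq_one_left h, hxi]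
      · exact absurd (h ▸ mul_mem hdx hx.mem) hzx
  -- the centralizer of z in Q x fixed by R
  have hAR : ∀ a ∈ Q x, a * z = z * a → ∀ r ∈ Q z, r * x = x * r →
      r * a * r⁻¹ * a⁻¹ = 1 ∨ r * a * r⁻¹ * a⁻¹ = x := by
    intro a ha haz r hr hrx
    refine hD _ (mul_mem (hx.norm r hrx a ha) (inv_mem ha)) ?_
    rw [show r * a * r⁻¹ * a⁻¹ = r * (a * r⁻¹ * a⁻¹) by group]
    exact mul_mem hr (hz.norm a haz _ (inv_mem hr))
  by_cases hab : ∀ r ∈ Q z, ∀ s ∈ Q z, r * x = x * r → s * x = x * s → r * s = s * r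
  · -- small case
    have hqq : ∀ r ∈ Q z, r * x = x * r → r = 1 ∨ r = z ∨ r = x ∨ r = z * x := by
      intro r hr hrx
      have key : ∀ d ∈ Q z, d * x = x * d → q * d = d * q → d = 1 ∨ d = z := fun d hd hdx hqd =>
        hz.cent d fun u hu => by
          rcases hz.comm u hu x hxz with e | e
          · exact hab d hd u hu hdx ((comm_iff _ _).1 e)
          · have hu' : q⁻¹ * u * x = x * (q⁻¹ * u) := by
              have a1 : u * x = z * x * u := by rw [← e]; group
              calc q⁻¹ * u * x = q⁻¹ * (z * x * u) := by rw [mul_assoc, a1]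
                _ = q⁻¹ * (q * x * q⁻¹) * u := by rw [hqx]; group
                _ = _ := by group
            have := (Commute.mul_right (show Commute d q from hqd.symm) (show Commute d (q⁻¹ * u) from hab d hd _ (mul_mem (inv_mem hq) hu) hdx hu')).eq
            simpa using this
      rcases hz.comm q hq r hr with e | e
      · rcases key r hr hrx ((comm_iff _ _).1 e) with h | h <;> simp [h]
      · have hqrx : q * (r * x) = r * x * q := by
          have a1 : q * r = z * r * q := by rw [← e]; group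
          calc q * (r * x) = q * r * q⁻¹ * (q * x * q⁻¹) * q := by group
            _ = z * r * (z * x) * q := by rw [a1, hqx]; group
            _ = z * (r * z) * x * q := by simp only [mul_assoc]
            _ = (z * z) * (r * x) * q := by rw [hz.le r hr]; simp only [mul_assoc]
            _ = _ := by rw [hz.sq, one_mul]
        rcases key _ (mul_mem hr hxz) (by rw [mul_assoc, hx.sq, mul_one, ← mul_assoc, ← hrx, mul_assoc, hx.sq, mul_one]) hqrx with h | h
        · right; right; left; rw [eq_inv_of_mul_eq_one_left h, hxi]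
        · right; right; right; rw [← h, mul_assoc, hx.sq, mul_one]
    have hA : ∀ a ∈ Q x, a * z = z * a → a = 1 ∨ a = x := by
      intro a ha haz
      have hax := hx.le a ha
      have hc : a * q * a⁻¹ ∈ Q z := hz.norm a haz q hq
      obtain ⟨r, hr, hrx, er⟩ : ∃ r ∈ Q z, r * x = x * r ∧ a * q * a⁻¹ = q * r := by
        refine ⟨q⁻¹ * (a * q * a⁻¹), mul_mem (inv_mem hq) hc, ?_, by group⟩
        have hb : a * (q * x * q⁻¹) * a⁻¹ = z * x := by
          rw [hqx, ← mul_assoc, haz, mul_assoc z, hax, mul_assoc, mul_assoc, mul_inv_cancel, mul_one]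
        calc q⁻¹ * (a * q * a⁻¹) * x = q⁻¹ * (a * q * (a⁻¹ * x)) := by group
          _ = q⁻¹ * (a * q * (x * a⁻¹)) := by rw [(Commute.inv_left (show Commute a x from hax)).eq]
          _ = q⁻¹ * (a * (q * x * q⁻¹) * a⁻¹) * (a * q * a⁻¹) := by group
          _ = q⁻¹ * (q * x * q⁻¹) * (a * q * a⁻¹) := by rw [hb, hqx]
          _ = _ := by group
      have hsq : a * (q * q) * a⁻¹ = q * q := by
        rcases hz.sqr q hq with e | e <;> rw [e]
        · group
        · rw [haz, mul_inv_cancel_right]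
      have fin : ∀ a, a ∈ Q x → a * z = z * a → a * q = q * a → a = 1 ∨ a = x := by
        intro a ha haz haq
        have hax := hx.le a ha
        rcases hz.cent a fun u hu => by
          rcases hz.comm u hu x hxz with e | e
          · rcases hqq u hu ((comm_iff _ _).1 e) with h | h | h | h <;> rw [h]
            · simp
            · exact haz
            · exact hax
            · exact (Commute.mul_right (show Commute a z from haz) hax).eq
          · have hu' : q⁻¹ * u * x = x * (q⁻¹ * u) := by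
              have a1 : u * x = z * x * u := by rw [← e]; group
              calc q⁻¹ * u * x = q⁻¹ * (z * x * u) := by rw [mul_assoc, a1]
                _ = q⁻¹ * (q * x * q⁻¹) * u := by rw [hqx]; group
                _ = _ := by group
            have hcc : a * (q⁻¹ * u) = q⁻¹ * u * a := by
              rcases hqq _ (mul_mem (inv_mem hq) hu) hu' with h | h | h | h <;> rw [h]
              · simp
              · exact haz
              · exact hax
              · exact (Commute.mul_right (show Commute a z from haz) hax).eq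
            have := (Commute.mul_right (show Commute a q from haq) (show Commute a (q⁻¹ * u) from hcc)).eq
            simpa using this with h | h
        · exact Or.inl h
        · exact absurd (h ▸ ha) hzx
      have hxqx : x * q * x⁻¹ = q * z := by
        calc x * q * x⁻¹ = (z * (z * x)) * q * x⁻¹ := by rw [← mul_assoc, hz.sq, one_mul]
          _ = z * (q * x * q⁻¹) * q * x⁻¹ := by rw [hqx]
          _ = z * q := by group
          _ = _ := (hz.le q hq).symm
      have hqxx : q * x * (q * x) = q * q * z := by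
        calc q * x * (q * x) = q * (x * q * x⁻¹) * (x * x) := by group
          _ = _ := by rw [hxqx, hx.sq, mul_one, mul_assoc]
      rcases hqq r hr hrx with h | h | h | h <;> rw [h] at er
      · exact fin a ha haz (mul_inv_eq_iff_eq_mul.1 (er.trans (mul_one q)))
      · -- composed with x
        rcases fin (x * a) (mul_mem hx.mem ha) ((Commute.mul_left (show Commute x z from hxzc) haz).eq) (by
            refine mul_inv_eq_iff_eq_mul.1 ?_
            calc x * a * q * (x * a)⁻¹ = x * (a * q * a⁻¹) * x⁻¹ := by group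
              _ = (x * q * x⁻¹) * (x * z * x⁻¹) := by rw [er]; group
              _ = q * z * z := by rw [hxqx, hxzc, mul_inv_cancel_right]
              _ = q := by rw [mul_assoc, hz.sq, mul_one]) with h' | h'
        · right; rw [eq_inv_of_mul_eq_one_right h', hxi]
        · left; exact mul_left_cancel (h'.trans (mul_one x).symm)
      · exfalso
        have := congrArg (fun t => t * t) er
        rw [show a * q * a⁻¹ * (a * q * a⁻¹) = a * (q * q) * a⁻¹ by group, hsq, hqxx] at this
        exact hz.ne (mul_left_cancel ((mul_one _).trans this)).symm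
      · exfalso
        have := congrArg (fun t => t * t) er
        rw [show a * q * a⁻¹ * (a * q * a⁻¹) = a * (q * q) * a⁻¹ by group, hsq,
          show q * (z * x) * (q * (z * x)) = (q * z) * x * ((q * z) * x) by group, hz.le q hq,
          show z * q * x * (z * q * x) = z * (q * x * z) * (q * x) by group,
          hz.le _ (mul_mem hq hxz), ← mul_assoc z, hz.sq, one_mul, hqxx] at this
        exact hz.ne (mul_left_cancel ((mul_one _).trans this)).symm
    obtain ⟨v, hv, hv1, hvx⟩ := hx.nontriv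
    have hw : z * v * z⁻¹ * v⁻¹ ∈ Q x := mul_mem (hzv v hv) (inv_mem hv)
    have hwz : z * (z * v * z⁻¹ * v⁻¹) * z⁻¹ = (z * v * z⁻¹ * v⁻¹)⁻¹ := by
      rw [hzi, show z * (z * v * z * v⁻¹) * z = (z * z) * v * z * v⁻¹ * z by group, hz.sq]
      rw [one_mul, _root_.mul_inv_rev, _root_.mul_inv_rev, _root_.mul_inv_rev, inv_inv, hzi]; group
    have hwc : (z * v * z⁻¹ * v⁻¹) * z = z * (z * v * z⁻¹ * v⁻¹) := by
      refine hB _ hw (hzflip _ ?_)
      generalize z * v * z⁻¹ * v⁻¹ = w at hw hwz
      rw [hwz, show w⁻¹ * w⁻¹ = (w * w)⁻¹ by group]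
      rcases hx.sqr w hw with h | h <;> rw [h]
      · left; simp
      · right; exact hxi
    have hvz : v * z = z * v := hB v hv (hzflip _ (hA _ hw hwc))
    rcases hA v hv hvz with h | h
    exacts [hv1 h, hvx h]
  · push Not at hab
    obtain ⟨r₁, hr₁, r₂, hr₂, hr₁x, hr₂x, hr⟩ := hab
    have hrz : r₁ * r₂ = z * (r₂ * r₁) := by
      rw [← (hz.comm r₁ hr₁ r₂ hr₂).resolve_left (fun e => hr ((comm_iff _ _).1 e))]; group
    -- z w z⁻¹ = w⁻¹ for commutators with z
    have hw : ∀ v ∈ Q x, (z * v * z⁻¹ * v⁻¹) * z = z * (z * v * z⁻¹ * v⁻¹) := by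
      intro v hv
      have hw : z * v * z⁻¹ * v⁻¹ ∈ Q x := mul_mem (hzv v hv) (inv_mem hv)
      have hwz : z * (z * v * z⁻¹ * v⁻¹) * z⁻¹ = (z * v * z⁻¹ * v⁻¹)⁻¹ := by
        rw [hzi, show z * (z * v * z * v⁻¹) * z = (z * z) * v * z * v⁻¹ * z by group, hz.sq]
        rw [one_mul, _root_.mul_inv_rev, _root_.mul_inv_rev, _root_.mul_inv_rev, inv_inv, hzi]; group
      refine hB _ hw (hzflip _ ?_)
      generalize z * v * z⁻¹ * v⁻¹ = w at hw hwz
      rw [hwz, show w⁻¹ * w⁻¹ = (w * w)⁻¹ by group]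
      rcases hx.sqr w hw with h | h <;> rw [h]
      · left; simp
      · right; exact hxi
    have hprod : ∀ a b : G, (a = 1 ∨ a = x) → (b = 1 ∨ b = x) → a * b = 1 ∨ a * b = x := by
      rintro a b (rfl | rfl) (rfl | rfl) <;> simp [hx.sq]
    have hu : ∀ v ∈ Q x, ∀ r ∈ Q z, r * x = x * r → (r * v * r⁻¹ * v⁻¹) * z = z * (r * v * r⁻¹ * v⁻¹) := by
      intro v hv r hr hrx
      have hw' : z * v * z⁻¹ * v⁻¹ ∈ Q x := mul_mem (hzv v hv) (inv_mem hv)
      have hu' : r * v * r⁻¹ * v⁻¹ ∈ Q x := mul_mem (hx.norm r hrx v hv) (inv_mem hv)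
      refine hB _ hu' (hzflip _ ?_)
      set w := z * v * z⁻¹ * v⁻¹ with hwdef
      set u := r * v * r⁻¹ * v⁻¹ with hudef
      have e1 := hAR w hw' (hw v hv) r hr hrx
      have e2 := hx.comm w hw' u hu'
      have : z * u * z⁻¹ * u⁻¹ = (r * w * r⁻¹ * w⁻¹) * (w * u * w⁻¹ * u⁻¹) := by
        calc z * u * z⁻¹ * u⁻¹ = (z * r) * v * (z * r)⁻¹ * (z * v⁻¹ * z⁻¹) * u⁻¹ := by rw [hudef]; group
          _ = (r * z) * v * (r * z)⁻¹ * (z * v⁻¹ * z⁻¹) * u⁻¹ := by rw [← hz.le r hr]
          _ = r * w * r⁻¹ * u * w⁻¹ * u⁻¹ := by rw [hwdef, hudef]; group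
          _ = _ := by group
      rw [this]
      exact hprod _ _ e1 e2
    have hcomp : ∀ v ∈ Q x, z * v * z⁻¹ * v⁻¹ = 1 ∨ z * v * z⁻¹ * v⁻¹ = x := by
      intro v' hv'
      have hrx : (r₂ * r₁)⁻¹ * x = x * (r₂ * r₁)⁻¹ :=
        (Commute.inv_left (Commute.mul_left (show Commute r₂ x from hr₂x) hr₁x)).eq
      set v := (r₂ * r₁)⁻¹ * v' * ((r₂ * r₁)⁻¹)⁻¹ with hvdef
      have hv : v ∈ Q x := hx.norm _ hrx v' hv'
      set u₁ := r₁ * v * r₁⁻¹ * v⁻¹ with hu₁
      set u₂ := r₂ * v * r₂⁻¹ * v⁻¹ with hu₂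
      have m₁ : u₁ ∈ Q x := mul_mem (hx.norm r₁ hr₁x v hv) (inv_mem hv)
      have m₂ : u₂ ∈ Q x := mul_mem (hx.norm r₂ hr₂x v hv) (inv_mem hv)
      have a₁ := hAR u₂ m₂ (hu v hv r₂ hr₂ hr₂x) r₁ hr₁ hr₁x
      have a₂ := hAR u₁ m₁ (hu v hv r₁ hr₁ hr₁x) r₂ hr₂ hr₂x
      have a₃ := hx.comm u₂ m₂ u₁ m₁
      have cx : ∀ e : G, (e = 1 ∨ e = x) → ∀ t ∈ Q x, e * t = t * e ∧ e⁻¹ = e := by
        rintro e (rfl | rfl) t ht
        · simp
        · exact ⟨(hx.le t ht).symm, hxi⟩
      set e₁ := r₁ * u₂ * r₁⁻¹ * u₂⁻¹ with he₁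
      set e₂ := r₂ * u₁ * r₂⁻¹ * u₁⁻¹ with he₂
      set e₃ := u₂ * u₁ * u₂⁻¹ * u₁⁻¹ with he₃
      have key : z * v' * z⁻¹ * v'⁻¹ = e₁ * e₃ * e₂ := by
        calc z * v' * z⁻¹ * v'⁻¹ = (z * (r₂ * r₁)) * v * (z * (r₂ * r₁))⁻¹ * ((r₂ * r₁) * v * (r₂ * r₁)⁻¹)⁻¹ := by
              rw [hvdef]; group
          _ = (r₁ * r₂) * v * (r₁ * r₂)⁻¹ * ((r₂ * r₁) * v * (r₂ * r₁)⁻¹)⁻¹ := by rw [hrz]
          _ = (e₁ * u₂ * u₁) * (e₂ * u₁ * u₂)⁻¹ := by rw [he₁, he₂, hu₁, hu₂]; group
          _ = e₁ * (u₂ * u₁ * u₂⁻¹ * u₁⁻¹) * e₂⁻¹ := by group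
          _ = _ := by rw [← he₃, (cx e₂ a₂ u₁ m₁).2]
      rw [key]; exact hprod _ _ (hprod _ _ a₁ a₃) a₂
    have hall : ∀ v ∈ Q x, z * v = v * z := fun v hv => (hB v hv (hzflip _ (hcomp v hv))).symm
    rcases hx.cent z hall with h | h
    exacts [hz.ne h, hne h.symm]

end Cfsg.Agent.Lib.Singular
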